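import Mathlib
import Groth.Prelude.Def_SGA3y
import Groth.Agent.PBW.Basic

/-!
# Connected cocommutative bialgebras in characteristic zero
-/

set_option autoImplicit false
universe u v

open TensorProduct Coalgebra WithConv

attribute [local instance] LieRing.ofAssociativeRing

namespace Groth.Agent.CMM

variable (k : Type u) [Field k] {H : Type v} [Ring H] [Bialgebra k H]

/-- The action of a functional on a coalgebra: `φ · a = ∑ φ(a₁) a₂`. -/
noncomputable def act : (H →ₗ[k] k) →ₗ[k] H →ₗ[k] H where
  toFun φ := (TensorProduct.lid k H).toLinearMap ∘ₗ φ.rTensor H ∘ₗ comul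
  map_add' φ ψ := by simp [LinearMap.rTensor_add, LinearMap.add_comp, LinearMap.comp_add]
  map_smul' c φ := by simp [LinearMap.rTensor_smul, LinearMap.smul_comp, LinearMap.comp_smul]

theorem act_apply (φ : H →ₗ[k] k) (a : H) :
    act k φ a = TensorProduct.lid k H (φ.rTensor H (comul a)) := rfl

variable {k}

theorem act_repr (φ : H →ₗ[k] k) (a : H) {ι : Type*} (r : Coalgebra.Repr k a ι) :
    act k φ a = ∑ i ∈ r.index, φ (r.left i) • r.right i := by
  simp [act_apply, ← r.eq, map_sum]

theorem pairing (φ ξ : H →ₗ[k] k) (a : H) : ξ (act k φ a) = (toConv φ * toConv ξ) a := by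
  rw [act_repr φ a (ℛ k a), (ℛ k a).convMul_apply, map_sum]
  simp

theorem pairing_two (φ ψ ξ : H →ₗ[k] k) (a : H) :
    ξ (act k φ (act k ψ a)) = (toConv ψ * (toConv φ * toConv ξ)) a := by
  rw [pairing]
  exact pairing ψ (toConv φ * toConv ξ).ofConv a

theorem ext_fun {a b : H} (h : ∀ ξ : H →ₗ[k] k, ξ a = ξ b) : a = b :=
  sub_eq_zero.mp ((Module.forall_dual_apply_eq_zero_iff k _).mp fun ξ => by rw [map_sub, h, sub_self])

/-- A tensor killed by all contractions on the left factor is zero. -/
theorem tensor_ext {M : Type*} [AddCommGroup M] [Module k M] {s t : H ⊗[k] M}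
    (h : ∀ φ : H →ₗ[k] k, TensorProduct.lid k M (φ.rTensor M s) = TensorProduct.lid k M (φ.rTensor M t)) : s = t := by
  let b := Module.Free.chooseBasis k H
  have key : ∀ (u : H ⊗[k] M) i,
      TensorProduct.equivFinsuppOfBasisLeft b u i = TensorProduct.lid k M ((b.coord i).rTensor M u) := by
    intro u i
    induction u using TensorProduct.induction_on with
    | zero => simp
    | tmul x y => simp
    | add x y hx hy => simp only [map_add, Finsupp.add_apply, hx, hy]
  refine (TensorProduct.equivFinsuppOfBasisLeft b).injective (Finsupp.ext fun i => ?_)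
  rw [key, key, h]

theorem act_map (φ : H →ₗ[k] k) (F G : H →ₗ[k] H) (a : H) :
    TensorProduct.lid k H (φ.rTensor H (TensorProduct.map F G (comul a))) = G (act k (φ ∘ₗ F) a) := by
  rw [act_apply]
  generalize (comul a : H ⊗[k] H) = t
  induction t using TensorProduct.induction_on with
  | zero => simp
  | tmul x y => simp
  | add x y hx hy => simp only [map_add, hx, hy]

theorem act_counit (a : H) : act k counit a = a := by
  simp [act_apply]

theorem act_one (φ : H →ₗ[k] k) : act k φ (1 : H) = φ 1 • (1 : H) := by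
  simp [act_apply, Algebra.TensorProduct.one_def]

/-- Functionals vanishing at one are the augmentation ideal of the dual algebra. -/
def Aug (φ : H →ₗ[k] k) : Prop := φ 1 = 0

theorem sub_aug (φ : H →ₗ[k] k) : Aug (φ - φ 1 • (counit : H →ₗ[k] k)) := by simp [Aug]

variable (k H) in
/-- The coradical filtration (shifted by one: `K 0 = ⊥`). -/
noncomputable def K : ℕ → Submodule k H
  | 0 => ⊥
  | n + 1 => ⨅ φ : {φ : H →ₗ[k] k // Aug φ}, (K n).comap (act k φ.1)

theorem mem_K_succ {n : ℕ} {a : H} : a ∈ K k H (n + 1) ↔ ∀ φ : H →ₗ[k] k, Aug φ → act k φ a ∈ K k H n := by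
  simp [K, Submodule.mem_iInf]

theorem K_mono_succ : ∀ n, K k H n ≤ K k H (n + 1)
  | 0 => bot_le
  | n + 1 => fun _ ha => mem_K_succ.mpr fun φ hφ => K_mono_succ n (mem_K_succ.mp ha φ hφ)

theorem K_mono {m n : ℕ} (h : m ≤ n) : K k H m ≤ K k H n := monotone_nat_of_le_succ K_mono_succ h

theorem one_mem_K_one : (1 : H) ∈ K k H 1 :=
  mem_K_succ.mpr fun φ hφ => by rw [act_one, show φ 1 = 0 from hφ, zero_smul]; exact zero_mem _

theorem mem_K_one {a : H} (ha : a ∈ K k H 1) : a = counit (R := k) a • (1 : H) := by
  refine ext_fun (k := k) fun φ => ?_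
  have h : act k (φ - φ 1 • (counit : H →ₗ[k] k)) a = 0 := mem_K_succ.mp ha _ (sub_aug φ)
  simp only [map_sub, map_smul, LinearMap.sub_apply, LinearMap.smul_apply, act_counit, sub_eq_zero] at h
  have h2 := congrArg (counit : H →ₗ[k] k) h
  rw [pairing, show toConv φ * toConv (counit : H →ₗ[k] k) = toConv φ by
    rw [show toConv (counit : H →ₗ[k] k) = 1 by ext; simp, mul_one]] at h2
  simp only [map_smul, smul_eq_mul] at h2
  simpa [mul_comm] using h2

theorem comul_prim {x : H} (hx : x ∈ SGA3y.primLie k H) :
    comul (R := k) x = x ⊗ₜ[k] (1 : H) + (1 : H) ⊗ₜ[k] x := hx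

theorem counit_prim {x : H} (hx : x ∈ SGA3y.primLie k H) : counit (R := k) x = 0 := by
  have h := congrArg (counit : H →ₗ[k] k) (act_counit (k := k) x)
  rw [act_apply, comul_prim hx] at h
  simpa using h

theorem act_prim (φ : H →ₗ[k] k) {x : H} (hx : x ∈ SGA3y.primLie k H) : act k φ x = φ x • (1 : H) + φ 1 • x := by
  simp [act_apply, comul_prim hx]

theorem sub_counit_prim {a : H} (ha : a ∈ K k H 2) : a - counit (R := k) a • (1 : H) ∈ SGA3y.primLie k H := by
  set x := a - counit (R := k) a • (1 : H) with hxdef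
  have hx : x ∈ K k H 2 := sub_mem ha (Submodule.smul_mem _ _ (K_mono (by norm_num) one_mem_K_one))
  have hε : counit (R := k) x = 0 := by simp [x]
  show comul (R := k) x = x ⊗ₜ[k] (1 : H) + (1 : H) ⊗ₜ[k] x
  refine tensor_ext fun φ => ?_
  have h1 := mem_K_one (mem_K_succ.mp hx _ (sub_aug φ))
  simp only [map_sub, map_smul, LinearMap.sub_apply, LinearMap.smul_apply, act_counit, hε, smul_zero, sub_zero] at h1
  rw [pairing, show toConv φ * toConv (counit : H →ₗ[k] k) = toConv φ by
    rw [show toConv (counit : H →ₗ[k] k) = 1 by ext; simp, mul_one]] at h1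
  rw [← act_apply, sub_eq_iff_eq_add.mp h1]
  simp

section Cocomm

variable [IsCocomm k H]

theorem act_comm (φ ψ : H →ₗ[k] k) (a : H) : act k φ (act k ψ a) = act k ψ (act k φ a) := by
  refine ext_fun (k := k) fun ξ => ?_
  rw [pairing_two, pairing_two, mul_left_comm]

theorem act_mem_K (φ : H →ₗ[k] k) : ∀ {n : ℕ} {a : H}, a ∈ K k H n → act k φ a ∈ K k H n
  | 0, a, ha => by rw [(Submodule.mem_bot k).mp (show a ∈ (⊥ : Submodule k H) from ha), map_zero]; exact zero_mem _
  | n + 1, a, ha => mem_K_succ.mpr fun f hf => by rw [act_comm]; exact act_mem_K φ (mem_K_succ.mp ha f hf)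

/-- A submodule stable under all functionals is a subcoalgebra. -/
theorem comul_mem_range (W : Submodule k H) (p : H →ₗ[k] W) (hp : ∀ w : W, p w = w) {x : H}
    (hx : ∀ φ : H →ₗ[k] k, act k φ x ∈ W) :
    comul (R := k) x = TensorProduct.map (W.subtype ∘ₗ p) (W.subtype ∘ₗ p) (comul (R := k) x) := by
  set q := W.subtype ∘ₗ p
  have h2 : TensorProduct.map LinearMap.id q (comul (R := k) x) = comul (R := k) x := by
    refine tensor_ext fun φ => ?_
    rw [act_map, LinearMap.comp_id, ← act_apply]
    show (p (act k φ x) : H) = act k φ x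
    exact congrArg Subtype.val (hp ⟨_, hx φ⟩)
  have h1 : TensorProduct.map q LinearMap.id (comul (R := k) x) = comul (R := k) x := by
    have h := congrArg (TensorProduct.comm k H H) h2
    rwa [← TensorProduct.map_comm, comm_comul] at h
  conv_lhs => rw [← h2, ← h1]
  rw [← LinearMap.comp_apply, ← TensorProduct.map_comp, LinearMap.comp_id, LinearMap.id_comp]

theorem exists_mem_K (hconn : SGA3y.IsConnectedCoalg k H) (a : H) : ∃ n, a ∈ K k H n := by
  suffices ∀ (d : ℕ) (a : H), Module.finrank k (LinearMap.range ((act k).flip a)) ≤ d → ∃ n, a ∈ K k H n from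
    this _ a le_rfl
  have hfin : ∀ a : H, FiniteDimensional k (LinearMap.range ((act k).flip a)) := by
    intro a
    have hle : LinearMap.range ((act k).flip a) ≤ Submodule.span k ((ℛ k a).right '' (ℛ k a).index) := by
      rintro _ ⟨φ, rfl⟩
      rw [LinearMap.flip_apply, act_repr φ a (ℛ k a)]
      exact sum_mem fun i hi => Submodule.smul_mem _ _ (Submodule.subset_span ⟨i, hi, rfl⟩)
    haveI : FiniteDimensional k (Submodule.span k ((ℛ k a).right '' (ℛ k a).index)) :=
      FiniteDimensional.span_of_finite k ((ℛ k a).index.finite_toSet.image _)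
    exact Submodule.finiteDimensional_of_le hle
  intro d
  induction d with
  | zero =>
    intro a ha
    haveI := hfin a
    rw [Nat.le_zero, Submodule.finrank_eq_zero] at ha
    have h0 : act k counit a = 0 := by
      rw [← Submodule.mem_bot k, ← ha]; exact ⟨counit, rfl⟩
    rw [act_counit] at h0
    exact ⟨0, h0 ▸ zero_mem _⟩
  | succ d ih =>
    intro a ha
    haveI := hfin a
    set W := LinearMap.range ((act k).flip a) with hW
    have hstable : ∀ φ : H →ₗ[k] k, ∀ x ∈ W, act k φ x ∈ W := by
      rintro φ _ ⟨ψ, rfl⟩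
      refine ⟨(toConv ψ * toConv φ).ofConv, ext_fun (k := k) fun ξ => ?_⟩
      rw [LinearMap.flip_apply, LinearMap.flip_apply, pairing, pairing_two, toConv_ofConv, mul_assoc]
    have key : ∀ φ : H →ₗ[k] k, Aug φ → ∃ n, act k φ a ∈ K k H n := by
      intro f hf
      refine ih _ ?_
      let F : W →ₗ[k] W := (act k f).restrict (hstable f)
      have hrange : LinearMap.range ((act k).flip (act k f a)) = (LinearMap.range F).map W.subtype := by
        apply le_antisymm
        · rintro _ ⟨φ, rfl⟩
          exact ⟨F ⟨_, ⟨φ, rfl⟩⟩, ⟨_, rfl⟩, act_comm f φ a⟩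
        · rintro _ ⟨_, ⟨⟨_, φ, rfl⟩, rfl⟩, rfl⟩
          exact ⟨φ, act_comm φ f a⟩
      rw [hrange, (Submodule.equivMapOfInjective W.subtype W.injective_subtype _).symm.finrank_eq]
      by_contra hd
      have htop : LinearMap.range F = ⊤ :=
        Submodule.eq_top_of_finrank_eq (le_antisymm (Submodule.finrank_le _) (by omega))
      have hinj : Function.Injective F := LinearMap.injective_iff_surjective.mpr (LinearMap.range_eq_top.mp htop)
      have hW0 : W ≠ ⊥ := by
        intro h0
        have : LinearMap.range F = ⊥ := by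
          rw [eq_bot_iff]; rintro ⟨y, hy⟩ -; exact (Submodule.mem_bot k).mpr (Subtype.ext ((Submodule.mem_bot k).mp (h0 ▸ hy)))
        rw [this, finrank_bot] at hd
        omega
      obtain ⟨p, hp⟩ := LinearMap.exists_leftInverse_of_injective W.subtype W.ker_subtype
      have hone : (1 : H) ∈ W := hconn W (fun x hx => by
        rw [comul_mem_range W p (fun w => LinearMap.congr_fun hp w) fun φ => hstable φ x hx]
        exact ⟨TensorProduct.map p p (comul (R := k) x), by rw [TensorProduct.map_map]⟩) hW0
      have h10 : (⟨1, hone⟩ : W) = 0 := hinj (by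
        rw [map_zero]; refine Subtype.ext ?_
        show act k f 1 = 0
        rw [act_one, show f 1 = 0 from hf, zero_smul])
      have : (1 : H) = 0 := congrArg Subtype.val h10
      have h := congrArg (counit : H →ₗ[k] k) this
      simp at h
    let V : Submodule k H := (LinearMap.ker (LinearMap.applyₗ (1 : H)) : Submodule k (H →ₗ[k] k)).map ((act k).flip a)
    have hVW : V ≤ W := LinearMap.map_le_range
    haveI : FiniteDimensional k V := Submodule.finiteDimensional_of_le hVW
    obtain ⟨s, hs⟩ := (Module.finite_def.mp ‹FiniteDimensional k V›).map V.subtype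
    rw [Submodule.map_top, Submodule.range_subtype] at hs
    have hs' : ∀ v ∈ s, ∃ n, v ∈ K k H n := by
      intro v hv
      obtain ⟨φ, hφ, rfl⟩ := (hs ▸ Submodule.subset_span hv : v ∈ V)
      exact key φ hφ
    choose n hn using hs'
    refine ⟨s.attach.sup (fun v => n v.1 v.2) + 1, mem_K_succ.mpr fun φ hφ => ?_⟩
    have hV : V ≤ K k H (s.attach.sup (fun v => n v.1 v.2)) := by
      rw [← hs, Submodule.span_le]
      exact fun v hv => K_mono (Finset.le_sup (f := fun v : {x // x ∈ s} => n v.1 v.2) (Finset.mem_attach s ⟨v, hv⟩)) (hn v hv)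
    exact hV ⟨φ, hφ, rfl⟩

variable (k H) in
/-- The second Adams operation. -/
noncomputable def Ψ : H →ₗ[k] H :=
  (toConv (LinearMap.id : H →ₗ[k] H) * toConv (LinearMap.id : H →ₗ[k] H)).ofConv

theorem Ψ_apply (a : H) : Ψ k H a = LinearMap.mul' k H (comul a) := by
  show LinearMap.mul' k H (TensorProduct.map LinearMap.id LinearMap.id (comul a)) = _
  rw [TensorProduct.map_id, LinearMap.id_apply]

theorem Ψ_one : Ψ k H (1 : H) = 1 := by simp [Ψ_apply, Algebra.TensorProduct.one_def]

theorem Ψ_prim {x : H} (hx : x ∈ SGA3y.primLie k H) : Ψ k H x = 2 • x := by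
  simp [Ψ_apply, comul_prim hx, two_mul]

theorem conv_incl (F G : H →ₗ[k] H) :
    toConv ((Algebra.TensorProduct.includeLeft : H →ₐ[k] H ⊗[k] H).toLinearMap ∘ₗ F) *
      toConv ((Algebra.TensorProduct.includeRight : H →ₐ[k] H ⊗[k] H).toLinearMap ∘ₗ G) =
      toConv (TensorProduct.map F G ∘ₗ comul) := by
  ext a
  rw [(ℛ k a).convMul_apply]
  show _ = TensorProduct.map F G (comul a)
  rw [← (ℛ k a).eq, map_sum]
  simp

theorem comul_Ψ (a : H) : comul (R := k) (Ψ k H a) = TensorProduct.map (Ψ k H) (Ψ k H) (comul (R := k) a) := by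
  let iL : H →ₐ[k] H ⊗[k] H := Algebra.TensorProduct.includeLeft
  let iR : H →ₐ[k] H ⊗[k] H := Algebra.TensorProduct.includeRight
  let I := toConv (LinearMap.id : H →ₗ[k] H)
  have hD : toConv (comul : H →ₗ[k] H ⊗[k] H) = toConv (iL.toLinearMap ∘ₗ LinearMap.id) * toConv (iR.toLinearMap ∘ₗ LinearMap.id) := by
    rw [conv_incl, TensorProduct.map_id, LinearMap.id_comp]
  have hD' : toConv (comul : H →ₗ[k] H ⊗[k] H) = toConv (iR.toLinearMap ∘ₗ LinearMap.id) * toConv (iL.toLinearMap ∘ₗ LinearMap.id) := by
    ext x
    rw [(ℛ k x).convMul_apply]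
    show comul x = _
    rw [← comm_comul k x, ← (ℛ k x).eq, map_sum]
    simp [iL, iR]
  have hΔ : (Bialgebra.comulAlgHom k H).toLinearMap ∘ₗ (LinearMap.id : H →ₗ[k] H) = (comul : H →ₗ[k] H ⊗[k] H) := LinearMap.ext fun _ => rfl
  have h := LinearMap.algHom_comp_convMul_distrib (Bialgebra.comulAlgHom k H) I I
  simp only [I, ofConv_toConv, hΔ] at h
  have hL := LinearMap.algHom_comp_convMul_distrib iL I I
  have hR := LinearMap.algHom_comp_convMul_distrib iR I I
  simp only [I, ofConv_toConv] at hL hR
  show ((Bialgebra.comulAlgHom k H).toLinearMap ∘ₗ Ψ k H) a = (TensorProduct.map (Ψ k H) (Ψ k H) ∘ₗ comul) a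
  have hcomm := hD.symm.trans hD'
  have e : toConv (comul : H →ₗ[k] H ⊗[k] H) * toConv (comul : H →ₗ[k] H ⊗[k] H) =
      toConv (TensorProduct.map (Ψ k H) (Ψ k H) ∘ₗ comul) := by
    rw [hD, mul_assoc, ← mul_assoc (toConv (iR.toLinearMap ∘ₗ LinearMap.id)), ← hcomm, mul_assoc, ← mul_assoc,
      ← conv_incl]
    simp only [Ψ]
    rw [hL, hR]
  exact LinearMap.congr_fun (h.trans (congrArg ofConv e)) a

theorem act_Ψ (f : H →ₗ[k] k) (a : H) : act k f (Ψ k H a) = Ψ k H (act k (f ∘ₗ Ψ k H) a) := by
  rw [act_apply, comul_Ψ, act_map]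

theorem act_of_vanish {g : H →ₗ[k] k} (hg : ∀ a ∈ K k H 2, g a = 0) :
    ∀ {n : ℕ} {a : H}, a ∈ K k H (n + 2) → act k g a ∈ K k H n
  | 0, a, ha => by
    obtain ⟨x, hx, c, rfl⟩ : ∃ x ∈ SGA3y.primLie k H, ∃ c : k, a = x + c • (1 : H) :=
      ⟨_, sub_counit_prim ha, _, (sub_add_cancel _ _).symm⟩
    have h1 : g 1 = 0 := hg 1 (K_mono (by norm_num) one_mem_K_one)
    have hx' : g x = 0 := hg x (by
      simpa using sub_mem ha (Submodule.smul_mem (K k H 2) c (K_mono (by norm_num) one_mem_K_one)))
    rw [map_add, map_smul, act_prim g hx, act_one, h1, hx']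
    simp
  | n + 1, a, ha => mem_K_succ.mpr fun f hf => by
    rw [act_comm]; exact act_of_vanish hg (mem_K_succ.mp ha f hf)

theorem Ψ_sub_mem : ∀ {n : ℕ} {a : H}, a ∈ K k H (n + 1) → Ψ k H a - (2 ^ n : k) • a ∈ K k H n
  | 0, a, ha => by
    rw [mem_K_one ha, map_smul, Ψ_one, pow_zero, one_smul, sub_self]; exact zero_mem _
  | n + 1, a, ha => mem_K_succ.mpr fun f hf => by
    have hf' : Aug (f ∘ₗ Ψ k H) := by show f (Ψ k H 1) = 0; rw [Ψ_one]; exact hf
    set g := f ∘ₗ Ψ k H - (2 : k) • f with hgdef
    have hg : ∀ x ∈ K k H 2, g x = 0 := by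
      intro x hx
      have hp := sub_counit_prim hx
      have h1 : g 1 = 0 := by simp [g, Ψ_one, show f 1 = 0 from hf]
      have h2 : g (x - counit (R := k) x • (1 : H)) = 0 := by
        simp only [g, LinearMap.sub_apply, LinearMap.comp_apply, LinearMap.smul_apply, Ψ_prim hp, map_nsmul]
        simp [two_nsmul, two_mul]
      rwa [map_sub, map_smul, h1, smul_zero, sub_zero] at h2
    set y := act k (f ∘ₗ Ψ k H) a
    have hy : y ∈ K k H (n + 1) := mem_K_succ.mp ha _ hf'
    have hgy : act k g a = y - (2 : k) • act k f a := by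
      simp [g, y, map_sub]
    have e : act k f (Ψ k H a - (2 ^ (n + 1) : k) • a) =
        (Ψ k H y - (2 ^ n : k) • y) + (2 ^ n : k) • act k g a := by
      rw [map_sub, map_smul, act_Ψ, hgy, smul_sub, smul_smul, pow_succ]; abel
    rw [e]
    exact add_mem (Ψ_sub_mem hy) (Submodule.smul_mem _ _ (act_of_vanish hg (n := n) ha))

theorem mem_of_forall_prim [CharZero k] (hconn : SGA3y.IsConnectedCoalg k H) (U : Subalgebra k H)
    (hU : ∀ x ∈ SGA3y.primLie k H, x ∈ U) (a : H) : a ∈ U := by
  obtain ⟨n, hn⟩ := exists_mem_K hconn a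
  revert hn
  induction n generalizing a with
  | zero => intro hn; rw [(Submodule.mem_bot k).mp (show a ∈ (⊥ : Submodule k H) from hn)]; exact zero_mem _
  | succ n ih =>
    intro ha
    rcases n with _ | _ | n
    · rw [mem_K_one ha]; exact U.smul_mem U.one_mem _
    · rw [← sub_add_cancel a (counit (R := k) a • (1 : H))]
      exact add_mem (hU _ (sub_counit_prim ha)) (U.smul_mem U.one_mem _)
    set K' := K k H (n + 2)
    have hone : (1 : H) ∈ K' := K_mono (by omega) one_mem_K_one
    let J : H →ₗ[k] H := LinearMap.id - (Algebra.linearMap k H) ∘ₗ counit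
    have hJ : ∀ x, J x = x - counit (R := k) x • (1 : H) := fun x => by simp [J, Algebra.algebraMap_eq_smul_one]
    obtain ⟨p, hp⟩ := LinearMap.exists_leftInverse_of_injective K'.subtype K'.ker_subtype
    set q := K'.subtype ∘ₗ p
    have h2 : TensorProduct.map LinearMap.id q (TensorProduct.map J J (comul (R := k) a)) =
        TensorProduct.map J J (comul (R := k) a) := by
      rw [TensorProduct.map_map]
      refine tensor_ext fun φ => ?_
      rw [act_map, act_map, LinearMap.id_comp]
      have hm : J (act k (φ ∘ₗ J) a) ∈ K' := by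
        rw [hJ]
        exact sub_mem (mem_K_succ.mp ha _ (by simp [Aug, hJ])) (Submodule.smul_mem _ _ hone)
      exact congrArg Subtype.val (LinearMap.congr_fun hp ⟨_, hm⟩)
    have h1 : TensorProduct.map q LinearMap.id (TensorProduct.map J J (comul (R := k) a)) =
        TensorProduct.map J J (comul (R := k) a) := by
      have h := congrArg (TensorProduct.comm k H H) h2
      rwa [← TensorProduct.map_comm, ← TensorProduct.map_comm, comm_comul] at h
    have hmul : ∀ t : H ⊗[k] H, LinearMap.mul' k H (TensorProduct.map q q t) ∈ U := by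
      intro t
      induction t using TensorProduct.induction_on with
      | zero => simp
      | tmul x y =>
        rw [TensorProduct.map_tmul, LinearMap.mul'_apply]
        exact U.mul_mem (ih _ (p x).2) (ih _ (p y).2)
      | add x y hx hy => rw [map_add, map_add]; exact add_mem hx hy
    have hJJ : LinearMap.mul' k H (TensorProduct.map J J (comul (R := k) a)) ∈ U := by
      have e : TensorProduct.map J J (comul (R := k) a) = TensorProduct.map q q (TensorProduct.map J J (comul (R := k) a)) := by
        conv_lhs => rw [← h2, ← h1]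
        simp only [TensorProduct.map_map, LinearMap.id_comp, LinearMap.comp_id]
      rw [e]; exact hmul _
    have hJJ' : LinearMap.mul' k H (TensorProduct.map J J (comul (R := k) a)) =
        Ψ k H a - (2 : k) • a + counit (R := k) a • (1 : H) := by
      show (toConv J * toConv J) a = _
      have : toConv J = toConv (LinearMap.id : H →ₗ[k] H) - 1 := rfl
      rw [this, sub_mul, mul_sub, mul_sub, one_mul, mul_one, one_mul]
      simp [Ψ, Algebra.algebraMap_eq_smul_one, two_smul]
      abel
    rw [hJJ'] at hJJ
    have hA : Ψ k H a - (2 : k) • a ∈ U := by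
      simpa using sub_mem hJJ (U.smul_mem U.one_mem (counit (R := k) a))
    have hB : Ψ k H a - (2 ^ (n + 2) : k) • a ∈ U := ih _ (Ψ_sub_mem ha)
    have hC : ((2 ^ (n + 2) : k) - 2) • a ∈ U := by
      have := sub_mem hA hB
      rwa [sub_sub_sub_cancel_left, ← sub_smul] at this
    have hne : (2 ^ (n + 2) : k) - 2 ≠ 0 := by
      rw [sub_ne_zero]
      intro h
      have h' : 2 ^ (n + 2) = 2 := Nat.cast_injective (R := k) (by push_cast; exact h)
      have : 2 ^ 2 ≤ 2 ^ (n + 2) := Nat.pow_le_pow_right (by norm_num) (by omega)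
      omega
    simpa [smul_smul, inv_mul_cancel₀ hne] using U.smul_mem hC ((2 ^ (n + 2) : k) - 2)⁻¹

/-- Products of primitives climb the filtration by one. -/
theorem act_prim_mul (f : H →ₗ[k] k) (hf : Aug f) {x : H} (hx : x ∈ SGA3y.primLie k H) {n : ℕ} {y : H}
    (hy : y ∈ K k H (n + 1)) : act k f (x * y) - (f x • y + x * act k f y) ∈ K k H n := by
  let g := f ∘ₗ LinearMap.mulLeft k x - f x • (counit : H →ₗ[k] k)
  have hg : Aug g := by simp [Aug, g]
  have e : act k f (x * y) = act k (f ∘ₗ LinearMap.mulLeft k x) y + x * act k f y := by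
    rw [act_apply, act_apply, act_apply, Bialgebra.comul_mul, comul_prim hx]
    generalize (comul y : H ⊗[k] H) = t
    induction t using TensorProduct.induction_on with
    | zero => simp
    | tmul a b => simp [add_mul, Algebra.TensorProduct.tmul_mul_tmul, mul_smul_comm]
    | add a b ha hb => simp only [mul_add, map_add, ha, hb]; abel
  have e2 : act k (f ∘ₗ LinearMap.mulLeft k x) y = f x • y + act k g y := by
    simp [g, map_sub, act_counit]
  rw [e, e2, show f x • y + act k g y + x * act k f y - (f x • y + x * act k f y) = act k g y by abel]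
  exact mem_K_succ.mp hy g hg

theorem prim_mul_mem {x : H} (hx : x ∈ SGA3y.primLie k H) :
    ∀ {n : ℕ} {y : H}, y ∈ K k H n → x * y ∈ K k H (n + 1)
  | 0, y, hy => by rw [(Submodule.mem_bot k).mp (show y ∈ (⊥ : Submodule k H) from hy), mul_zero]; exact zero_mem _
  | n + 1, y, hy => mem_K_succ.mpr fun f hf => by
    rw [← sub_add_cancel (act k f (x * y)) (f x • y + x * act k f y)]
    exact add_mem (K_mono (Nat.le_succ _) (act_prim_mul f hf hx hy))
      (add_mem (Submodule.smul_mem _ _ hy) (prim_mul_mem hx (mem_K_succ.mp hy f hf)))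

section Indep

variable [CharZero k] {ι : Type*} [LinearOrder ι] (b : Module.Basis ι k (SGA3y.primLie k H))

/-- Ordered monomials in the primitives. -/
noncomputable def mono (l : List ι) : H := (l.map fun i => (b i : H)).prod

theorem mono_cons (i : ι) (l : List ι) : mono b (i :: l) = (b i : H) * mono b l := by simp [mono]

theorem mono_mem : ∀ l : List ι, mono b l ∈ K k H (l.length + 1)
  | [] => by simpa [mono] using one_mem_K_one
  | i :: l => by rw [mono_cons]; exact prim_mul_mem (b i).2 (mono_mem l)

omit [CharZero k] [IsCocomm k H] in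
theorem exists_coord (i : ι) : ∃ f : H →ₗ[k] k, Aug f ∧ ∀ j, f (b j : H) = if j = i then 1 else 0 := by
  obtain ⟨ψ, hψ⟩ := LinearMap.exists_extend (p := (SGA3y.primLie k H).toSubmodule) (b.coord i)
  refine ⟨ψ - ψ 1 • (counit : H →ₗ[k] k), sub_aug ψ, fun j => ?_⟩
  have : ψ (b j : H) = b.coord i (b j) := LinearMap.congr_fun hψ (b j)
  simp [this, counit_prim (b j).2, Finsupp.single_apply, eq_comm]

theorem act_mono {f : H →ₗ[k] k} (hf : Aug f) {i : ι} (hfi : ∀ j, f (b j : H) = if j = i then 1 else 0) :
    ∀ l : List ι, l.SortedLE →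
      act k f (mono b l) - (l.count i : k) • mono b (l.erase i) ∈ K k H (l.length - 1)
  | [], _ => by simp [mono, act_one, show f 1 = 0 from hf]
  | j :: l, hl => by
    have hsorted : l.SortedLE := Groth.Agent.PBW.sorted_tail hl
    have h1 := act_prim_mul f hf (b j).2 (mono_mem b l)
    have h2 : (b j : H) * (act k f (mono b l) - (l.count i : k) • mono b (l.erase i)) ∈ K k H l.length := by
      rcases l with _ | ⟨j', l⟩
      · simp [mono, act_one, show f 1 = 0 from hf]
      · exact prim_mul_mem (b j).2 (act_mono hf hfi _ hsorted)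
    have key : f (b j : H) • mono b l + (l.count i : k) • ((b j : H) * mono b (l.erase i)) =
        ((j :: l).count i : k) • mono b ((j :: l).erase i) := by
      rw [hfi, ← mono_cons]
      rcases eq_or_ne j i with rfl | hne
      · rw [if_pos rfl, List.erase_cons_head, List.count_cons_self, one_smul]
        rcases Nat.eq_zero_or_pos (l.count j) with h0 | hpos
        · simp [h0]
        · have hmem : j ∈ l := List.count_pos_iff.mp hpos
          have hh : j :: l.erase j = l := by
            rcases l with _ | ⟨j', l'⟩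
            · simp at hmem
            · have h1 : j ≤ j' := Groth.Agent.PBW.le_of_sorted hl j' (by simp)
              have h2 : j' ≤ j := by
                rcases List.mem_cons.mp hmem with rfl | h
                · exact le_rfl
                · exact Groth.Agent.PBW.le_of_sorted hsorted j h
              obtain rfl := le_antisymm h1 h2
              rw [List.erase_cons_head]
          rw [hh]; push_cast; rw [add_smul, one_smul, add_comm]
      · rw [if_neg hne, zero_smul, zero_add, List.erase_cons_tail (by simpa using hne), List.count_cons_of_ne hne]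
    rw [List.length_cons, Nat.add_sub_cancel]
    have : act k f (mono b (j :: l)) - ((j :: l).count i : k) • mono b ((j :: l).erase i) =
        (act k f ((b j : H) * mono b l) - (f (b j : H) • mono b l + (b j : H) * act k f (mono b l))) +
        (b j : H) * (act k f (mono b l) - (l.count i : k) • mono b (l.erase i)) := by
      rw [← key, mono_cons b j l, mul_sub, mul_smul_comm]; abel
    rw [this]
    exact add_mem h1 h2

/-- The images of monomials of length `n` are independent modulo `K n`. -/
theorem indep_graded : ∀ (n : ℕ) (s : Finset (List ι)) (c : List ι → k),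
    (∀ l ∈ s, l.SortedLE ∧ l.length = n) → ∑ l ∈ s, c l • mono b l ∈ K k H n → ∀ l ∈ s, c l = 0
  | 0, s, c, hs, h => by
    intro l hl
    have hnil : ∀ l' ∈ s, l' = [] := fun l' hl' => List.length_eq_zero_iff.mp (hs l' hl').2
    rw [Finset.sum_eq_single_of_mem l hl (fun l' hl' hne => absurd ((hnil l' hl').trans (hnil l hl).symm) hne),
      hnil l hl] at h
    have h' : c [] • (1 : H) = 0 := by simpa [mono, K] using h
    have := congrArg (counit : H →ₗ[k] k) h'
    simpa [hnil l hl] using this
  | n + 1, s, c, hs, h => by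
    classical
    intro l hl
    obtain ⟨i, l', rfl⟩ := List.exists_cons_of_length_eq_add_one (hs l hl).2
    obtain ⟨f, hf, hfi⟩ := exists_coord b i
    have h1 : ∑ m ∈ s, c m • act k f (mono b m) ∈ K k H n := by
      have := mem_K_succ.mp h f hf
      simpa [map_sum] using this
    have h2 : ∑ m ∈ s, c m • (m.count i : k) • mono b (m.erase i) ∈ K k H n := by
      have h3 : ∑ m ∈ s, c m • (act k f (mono b m) - (m.count i : k) • mono b (m.erase i)) ∈ K k H n :=
        sum_mem fun m hm => Submodule.smul_mem _ _ (by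
          have := act_mono b hf hfi m (hs m hm).1
          rwa [(hs m hm).2, Nat.add_sub_cancel] at this)
      have := sub_mem h1 h3
      simpa [smul_sub, Finset.sum_sub_distrib] using this
    rw [← Finset.sum_filter_of_ne (p := fun m : List ι => i ∈ m) (fun m _ hne => by
      by_contra hm; exact hne (by simp [List.count_eq_zero_of_not_mem hm]))] at h2
    have herase : ∀ m ∈ s.filter (fun m : List ι => i ∈ m), List.orderedInsert (· ≤ ·) i (m.erase i) = m := by
      intro m hm
      rw [Finset.mem_filter] at hm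
      exact List.orderedInsert_erase i m hm.2 (List.sortedLE_iff_pairwise.mp (hs m hm.1).1)
    rw [show ∑ m ∈ s.filter (fun m : List ι => i ∈ m), c m • (m.count i : k) • mono b (m.erase i) =
        ∑ m ∈ (s.filter (fun m : List ι => i ∈ m)).image (fun m => m.erase i),
          (c (List.orderedInsert (· ≤ ·) i m) * ((List.orderedInsert (· ≤ ·) i m).count i : k)) • mono b m by
      rw [Finset.sum_image (fun m hm m' hm' e => by rw [← herase m hm, ← herase m' hm', e])]
      exact Finset.sum_congr rfl fun m hm => by rw [herase m hm, smul_smul]] at h2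
    have hh := indep_graded n _ _ ?_ h2 ((i :: l').erase i) (Finset.mem_image_of_mem _ (Finset.mem_filter.mpr ⟨hl, by simp⟩))
    · rw [herase _ (Finset.mem_filter.mpr ⟨hl, by simp⟩)] at hh
      rcases mul_eq_zero.mp hh with h0 | h0
      · exact h0
      · exact absurd h0 (Nat.cast_ne_zero.mpr (by simp))
    · intro m hm
      obtain ⟨m', hm', rfl⟩ := Finset.mem_image.mp hm
      rw [Finset.mem_filter] at hm'
      refine ⟨List.sortedLE_iff_pairwise.mpr ((List.sortedLE_iff_pairwise.mp (hs m' hm'.1).1).sublist List.erase_sublist), ?_⟩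
      rw [List.length_erase_of_mem hm'.2, (hs m' hm'.1).2]; omega

theorem indep : LinearIndependent k fun l : {l : List ι // l.SortedLE} => mono b l.1 := by
  classical
  rw [linearIndependent_iff']
  intro s c hc l hl
  induction hN : s.sup (fun l => l.1.length + 1) using Nat.strong_induction_on generalizing s with
  | _ N ih =>
    rcases N with _ | N
    · have := Finset.le_sup (f := fun l : {l : List ι // l.SortedLE} => l.1.length + 1) hl
      omega
    have hle : ∀ m ∈ s, m.1.length ≤ N := fun m hm => by
      have := Finset.le_sup (f := fun l : {l : List ι // l.SortedLE} => l.1.length + 1) hm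
      omega
    let top := s.filter fun m => m.1.length = N
    let low := s.filter fun m => ¬ m.1.length = N
    have hsplit : ∑ m ∈ top, c m • mono b m.1 + ∑ m ∈ low, c m • mono b m.1 = 0 := by
      rw [Finset.sum_filter_add_sum_filter_not]; exact hc
    have htop : ∀ m ∈ top, c m = 0 := by
      have hlow : ∑ m ∈ low, c m • mono b m.1 ∈ K k H N := sum_mem fun m hm => Submodule.smul_mem _ _ (by
        rw [Finset.mem_filter] at hm
        exact K_mono (by have := hle m hm.1; omega) (mono_mem b m.1))
      have hmem : ∑ m ∈ top, c m • mono b m.1 ∈ K k H N := by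
        rw [eq_neg_of_add_eq_zero_left hsplit]; exact neg_mem hlow
      let c' : List ι → k := fun m => if h : m.SortedLE then c ⟨m, h⟩ else 0
      have hc' : ∀ m : {l : List ι // l.SortedLE}, c' m.1 = c m := fun m => dif_pos m.2
      intro m hm
      rw [← hc']
      refine indep_graded b N (top.map ⟨Subtype.val, Subtype.val_injective⟩) c' ?_ ?_ _ (Finset.mem_map_of_mem _ hm)
      · intro x hx
        obtain ⟨y, hy, rfl⟩ := Finset.mem_map.mp hx
        exact ⟨y.2, (Finset.mem_filter.mp hy).2⟩
      · rw [Finset.sum_map]; simpa [hc'] using hmem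
    by_cases hlN : l.1.length = N
    · exact htop l (Finset.mem_filter.mpr ⟨hl, hlN⟩)
    · refine ih (low.sup fun l => l.1.length + 1) ?_ low ?_ (Finset.mem_filter.mpr ⟨hl, hlN⟩) rfl
      · refine (Finset.sup_lt_iff (Nat.succ_pos N)).mpr fun m hm => ?_
        rw [Finset.mem_filter] at hm
        have := hle m hm.1
        omega
      · rw [Finset.sum_eq_zero (s := top) fun m hm => by rw [htop m hm, zero_smul], zero_add] at hsplit
        exact hsplit

end Indep

end Cocomm

end Groth.Agent.CMM
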